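import Mathlib
import Cfsg.Prelude.Def_Transfer
import Cfsg.Agent.Lib.PGroup.Frattini
import Cfsg.Agent.Lib.PGroup.Extraspecial
import Cfsg.Agent.Lib.ExtraspecialOrder.Basic

/-!
`p`-groups with an abelian, or an extraspecial, subgroup of index `p`.
-/

set_option autoImplicit false

namespace Cfsg.Agent.Lib.AbelianIndexP

open Subgroup
open scoped commutatorElement
open Cfsg.Agent.Lib

variable {S : Type*} [Group S] [Finite S] {p : ℕ} [Fact p.Prime]

theorem normal_of_index_eq (hS : IsPGroup p S) {H : Subgroup S} (hH : H.index = p) : H.Normal := by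
  refine PFrattini.normal_of_isCoatom hS ⟨fun h => ?_, fun K hK => ?_⟩
  · rw [h, index_top] at hH
    exact (Fact.out : p.Prime).ne_one hH.symm
  · have h1 := relIndex_mul_index hK.le
    rw [hH] at h1
    have h2 : H.relIndex K ≠ 1 := fun h => not_le_of_gt hK (relIndex_eq_one.mp h)
    have h3 : H.relIndex K = p :=
      ((Fact.out : p.Prime).eq_one_or_self_of_dvd _ ⟨_, h1.symm⟩).resolve_left h2
    rw [h3] at h1
    exact index_eq_one.mp ((Nat.mul_eq_left (Fact.out : p.Prime).ne_zero).mp h1)

theorem sup_eq_top_of_not_mem {H : Subgroup S} (hH : H.index = p) {s : S} (hs : s ∉ H)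
    {K : Subgroup S} (hHK : H ≤ K) (hsK : s ∈ K) : K = ⊤ := by
  have h1 := relIndex_mul_index hHK
  rw [hH] at h1
  have h2 : H.relIndex K ≠ 1 := fun h => hs (relIndex_eq_one.mp h hsK)
  have h3 : H.relIndex K = p :=
    ((Fact.out : p.Prime).eq_one_or_self_of_dvd _ ⟨_, h1.symm⟩).resolve_left h2
  rw [h3] at h1
  exact index_eq_one.mp ((Nat.mul_eq_left (Fact.out : p.Prime).ne_zero).mp h1)

theorem center_le_of_abelian_index (hna : ¬ IsMulCommutative S) {A : Subgroup S}
    (hA : IsMulCommutative A) (hAi : A.index = p) : center S ≤ A := by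
  intro z hz
  by_contra hzA
  refine hna (IsMulCommutative.of_comm fun a b => ?_)
  have hC : ∀ w, w ∈ A → ∀ t : S, t ∈ centralizer ({w} : Set S) := by
    intro w hw
    have := sup_eq_top_of_not_mem hAi hzA (K := centralizer ({w} : Set S))
      (fun a ha => mem_centralizer_singleton_iff.mpr (congrArg Subtype.val (hA.is_comm.comm ⟨a, ha⟩ ⟨w, hw⟩)))
      (mem_centralizer_singleton_iff.mpr (mem_center_iff.mp hz w).symm)
    exact fun t => this ▸ mem_top t
  have hAc : A ≤ center S := fun w hw => mem_center_iff.mpr fun t =>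
    mem_centralizer_singleton_iff.mp (hC w hw t)
  have := sup_eq_top_of_not_mem hAi hzA (K := center S) hAc hz
  exact (mem_center_iff.mp (this ▸ mem_top b : b ∈ center S) a)

theorem index_center_eq (hS : IsPGroup p S) (hna : ¬ IsMulCommutative S) {A : Subgroup S}
    (hA : IsMulCommutative A) (hAi : A.index = p) :
    (center S).index = p * Nat.card (commutator S) := by
  haveI hAn := normal_of_index_eq hS hAi
  obtain ⟨s, -, hs⟩ := SetLike.exists_of_lt (show A < ⊤ from lt_top_iff_ne_top.mpr fun h => by
    rw [h, index_top] at hAi; exact (Fact.out : p.Prime).ne_one hAi.symm)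
  have hcomm : ∀ a ∈ A, ∀ b ∈ A, a * b = b * a := fun a ha b hb =>
    congrArg Subtype.val (hA.is_comm.comm ⟨a, ha⟩ ⟨b, hb⟩)
  have hmemA : ∀ a ∈ A, ⁅a, s⁆ ∈ A := fun a ha => by
    rw [commutatorElement_def, mul_assoc, mul_assoc, ← mul_assoc s]
    exact A.mul_mem ha (hAn.conj_mem _ (A.inv_mem ha) s)
  let φ : A →* A :=
    { toFun := fun a => ⟨⁅(a : S), s⁆, hmemA a a.2⟩
      map_one' := Subtype.ext (commutatorElement_one_left s)
      map_mul' := fun a b => Subtype.ext (by
        show ⁅(a : S) * b, s⁆ = ⁅(a : S), s⁆ * ⁅(b : S), s⁆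
        rw [commutatorElement_mul_left_eq_conj_mul]
        rw [hcomm _ a.2 _ (hmemA b b.2), mul_inv_cancel_right]
        exact hcomm _ (hmemA b b.2) _ (hmemA a a.2)) }
  have hZA := center_le_of_abelian_index hna hA hAi
  have hker : φ.ker.map A.subtype = center S := by
    apply le_antisymm
    · rintro _ ⟨a, ha, rfl⟩
      have h1 : (a : S) * s = s * a :=
        commutatorElement_eq_one_iff_mul_comm.mp (congrArg Subtype.val (MonoidHom.mem_ker.mp ha))
      have := sup_eq_top_of_not_mem hAi hs (K := centralizer ({(a : S)} : Set S))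
        (fun b hb => mem_centralizer_singleton_iff.mpr (hcomm b hb a a.2))
        (mem_centralizer_singleton_iff.mpr h1.symm)
      exact mem_center_iff.mpr fun t => mem_centralizer_singleton_iff.mp (this ▸ mem_top t)
    · intro z hz
      exact ⟨⟨z, hZA hz⟩, MonoidHom.mem_ker.mpr (Subtype.ext
        (commutatorElement_eq_one_iff_mul_comm.mpr (mem_center_iff.mp hz s).symm)), rfl⟩
  set R := φ.range.map A.subtype with hR
  have hRc : R = commutator S := by
    apply le_antisymm
    · rintro _ ⟨_, ⟨a, rfl⟩, rfl⟩
      exact commutator_def S ▸ commutator_mem_commutator (mem_top _) (mem_top _)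
    · have hRn : R.Normal := by
        have hnorm : normalizer (R : Set S) = ⊤ := by
          refine sup_eq_top_of_not_mem hAi hs ?_ ?_
          · intro a ha
            rw [mem_normalizer_iff]
            intro r
            constructor
            · intro hr
              have hrA : r ∈ A := map_subtype_le _ hr
              rwa [hcomm a ha r hrA, mul_inv_cancel_right]
            · intro hr
              have hrA : a * r * a⁻¹ ∈ A := map_subtype_le _ hr
              have h2 : r ∈ A := by
                have := A.mul_mem (A.mul_mem (A.inv_mem ha) hrA) ha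
                simpa [mul_assoc] using this
              rwa [hcomm a ha r h2, mul_inv_cancel_right] at hr
          · have key : ∀ r ∈ R, s * r * s⁻¹ ∈ R := by
              rintro _ ⟨_, ⟨a, rfl⟩, rfl⟩
              refine ⟨_, ⟨⟨s * a * s⁻¹, hAn.conj_mem _ a.2 s⟩, rfl⟩, ?_⟩
              show ⁅s * (a : S) * s⁻¹, s⁆ = s * ⁅(a : S), s⁆ * s⁻¹
              simp [commutatorElement_def, mul_assoc]
            have heq : R.map (MulAut.conj s).toMonoidHom = R :=
              eq_of_le_of_card_ge (by rintro _ ⟨r, hr, rfl⟩; exact key r hr)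
                (card_map_of_injective (K := R) (MulAut.conj s).injective).ge
            exact mem_normalizer_iff_map_conj_eq.mpr heq
        exact normalizer_eq_top_iff.mp hnorm
      haveI := hRn
      rw [commutator_def, commutator_le]
      intro x _ y _
      rw [← QuotientGroup.eq_one_iff, ← QuotientGroup.mk'_apply, map_commutatorElement,
        commutatorElement_eq_one_iff_mul_comm]
      have hcA : ∀ w, w ∈ A → ∀ t : S,
          QuotientGroup.mk' R t * QuotientGroup.mk' R w = QuotientGroup.mk' R w * QuotientGroup.mk' R t := by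
        intro w hw
        have := sup_eq_top_of_not_mem hAi hs
          (K := (centralizer ({QuotientGroup.mk' R w} : Set (S ⧸ R))).comap (QuotientGroup.mk' R))
          (fun a ha => by
            rw [mem_comap, mem_centralizer_singleton_iff, ← map_mul, ← map_mul, hcomm a ha w hw])
          (by
            rw [mem_comap, mem_centralizer_singleton_iff]
            have h1 : QuotientGroup.mk' R ⁅w, s⁆ = 1 :=
              (QuotientGroup.eq_one_iff _).mpr ⟨_, ⟨⟨w, hw⟩, rfl⟩, rfl⟩
            rw [map_commutatorElement, commutatorElement_eq_one_iff_mul_comm] at h1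
            exact h1.symm)
        exact fun t => mem_centralizer_singleton_iff.mp
          (this ▸ mem_top t : t ∈ (centralizer ({QuotientGroup.mk' R w} : Set (S ⧸ R))).comap (QuotientGroup.mk' R))
      have := sup_eq_top_of_not_mem hAi hs
        (K := (centralizer ({QuotientGroup.mk' R x} : Set (S ⧸ R))).comap (QuotientGroup.mk' R))
        (fun a ha => by
          rw [mem_comap, mem_centralizer_singleton_iff]
          exact (hcA a ha x).symm)
        (by
          rw [mem_comap, mem_centralizer_singleton_iff]
          have := sup_eq_top_of_not_mem hAi hs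
            (K := (centralizer ({QuotientGroup.mk' R s} : Set (S ⧸ R))).comap (QuotientGroup.mk' R))
            (fun a ha => by
              rw [mem_comap, mem_centralizer_singleton_iff]
              exact (hcA a ha s).symm)
            (by rw [mem_comap, mem_centralizer_singleton_iff])
          exact (mem_centralizer_singleton_iff.mp
            (this ▸ mem_top x : x ∈ (centralizer ({QuotientGroup.mk' R s} : Set (S ⧸ R))).comap (QuotientGroup.mk' R))).symm)
      exact (mem_centralizer_singleton_iff.mp
        (this ▸ mem_top y : y ∈ (centralizer ({QuotientGroup.mk' R x} : Set (S ⧸ R))).comap (QuotientGroup.mk' R))).symm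
  have h1 : Nat.card A = Nat.card (center S) * Nat.card (commutator S) := by
    rw [← hRc, ← hker, hR, card_map_of_injective A.subtype_injective,
      card_map_of_injective A.subtype_injective, φ.ker.card_eq_card_quotient_mul_card_subgroup,
      Nat.card_congr (QuotientGroup.quotientKerEquivRange φ).toEquiv, mul_comm]
  have h2 := A.card_mul_index
  have h3 := (center S).card_mul_index
  rw [hAi, h1] at h2
  apply Nat.eq_of_mul_eq_mul_left (Nat.card_pos (α := center S))
  rw [h3, ← h2]; ring

theorem structure_dichotomy (hS : IsPGroup p S) (hna : ¬ IsMulCommutative S)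
    (A : Subgroup S) (hA : IsMulCommutative A) (hAi : A.index = p) :
    (center S).index = p * Nat.card (commutator S) ∧
      ((Nat.card (commutator S) = p ∧ IsElementaryAbelian p (⊤ : Subgroup (S ⧸ center S)) ∧
          Nat.card (S ⧸ center S) = p ^ 2 ∧
          Nat.card {B : Subgroup S // IsMulCommutative ↥B ∧ B.index = p} = p + 1) ∨
        (p ^ 2 ≤ Nat.card (commutator S) ∧ ∀ B : Subgroup S, IsMulCommutative ↥B → B.index = p → B = A)) := by
  have hidx := index_center_eq hS hna hA hAi
  refine ⟨hidx, ?_⟩
  obtain ⟨e, he⟩ := IsPGroup.iff_card.mp (hS.to_subgroup (commutator S))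
  have he1 : e ≠ 0 := by
    rintro rfl
    rw [pow_zero, card_eq_one] at he
    exact hna ((_root_.commutator_eq_bot_iff S).mp he)
  have hp := (Fact.out : p.Prime)
  rcases (show e = 1 ∨ 2 ≤ e by omega) with rfl | he2
  · rw [pow_one] at he
    have hcard : Nat.card (S ⧸ center S) = p ^ 2 := by
      rw [← index_eq_card, hidx, he, sq]
    have hcm : ∀ a b : S ⧸ center S, a * b = b * a := IsPGroup.commutative_of_card_eq_prime_sq hcard
    have hexp : ∀ a : S ⧸ center S, a ^ p = 1 := by
      by_contra hne
      push Not at hne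
      obtain ⟨a, ha⟩ := hne
      have ho : orderOf a = p ^ 2 := by
        obtain ⟨i, hi, hi'⟩ := (Nat.dvd_prime_pow hp).mp (hcard ▸ orderOf_dvd_natCard a)
        rcases (show i ≤ 1 ∨ i = 2 by omega) with h1 | h1
        · exact absurd (orderOf_dvd_iff_pow_eq_one.mp (hi' ▸ (pow_dvd_pow p h1).trans (by simp))) ha
        · rw [hi', h1]
      haveI : IsCyclic (S ⧸ center S) :=
        isCyclic_of_orderOf_eq_card a (ho.trans hcard.symm)
      exact hna (IsMulCommutative.of_comm (commutative_of_cyclic_center_quotient (QuotientGroup.mk' (center S))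
        (QuotientGroup.ker_mk' _).le))
    refine Or.inl ⟨he, ⟨IsMulCommutative.of_comm fun a b => Subtype.ext (hcm a b), fun a _ => hexp a⟩,
      hcard, ?_⟩
    have hiff : ∀ B : Subgroup S, (IsMulCommutative ↥B ∧ B.index = p) ↔
        (center S ≤ B ∧ B.index = p) := by
      intro B
      refine ⟨fun h => ⟨center_le_of_abelian_index hna h.1 h.2, h.2⟩, fun ⟨hle, hi⟩ => ⟨?_, hi⟩⟩
      have h1 : Nat.card (B.map (QuotientGroup.mk' (center S))) = p := by
        have h2 := (B.map (QuotientGroup.mk' (center S))).card_mul_index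
        rw [index_map_eq B (QuotientGroup.mk'_surjective _) (by rwa [QuotientGroup.ker_mk']), hi,
          hcard, sq] at h2
        exact Nat.eq_of_mul_eq_mul_right hp.pos h2
      haveI := isCyclic_of_prime_card h1
      refine IsMulCommutative.of_comm (commutative_of_cyclic_center_quotient
        ((QuotientGroup.mk' (center S)).subgroupMap B) ?_)
      intro z hz
      rw [MonoidHom.mem_ker] at hz
      have hz' : (z : S) ∈ center S := (QuotientGroup.eq_one_iff _).mp (congrArg Subtype.val hz)
      exact mem_center_iff.mpr fun b => Subtype.ext (mem_center_iff.mp hz' b)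
    rw [Nat.card_congr (Equiv.subtypeEquivRight hiff)]
    let e : {B : Subgroup S // center S ≤ B ∧ B.index = p} ≃
        {H : Subgroup (S ⧸ center S) // Nat.card H = p} :=
      { toFun := fun B => ⟨B.1.map (QuotientGroup.mk' (center S)), by
          have h2 := (B.1.map (QuotientGroup.mk' (center S))).card_mul_index
          rw [index_map_eq B.1 (QuotientGroup.mk'_surjective _) (by rw [QuotientGroup.ker_mk']; exact B.2.1),
            B.2.2, hcard, sq] at h2
          exact Nat.eq_of_mul_eq_mul_right hp.pos h2⟩
        invFun := fun H => ⟨H.1.comap (QuotientGroup.mk' (center S)), by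
          refine ⟨fun z hz => ?_, ?_⟩
          · rw [mem_comap, QuotientGroup.mk'_apply, (QuotientGroup.eq_one_iff z).mpr hz]; exact H.1.one_mem
          · rw [index_comap_of_surjective _ (QuotientGroup.mk'_surjective _)]
            have h2 := H.1.card_mul_index
            rw [H.2, hcard, sq] at h2
            exact Nat.eq_of_mul_eq_mul_left hp.pos h2⟩
        left_inv := fun B => Subtype.ext (by
          simp only [comap_map_eq, QuotientGroup.ker_mk']; exact sup_eq_left.mpr B.2.1)
        right_inv := fun H => Subtype.ext (map_comap_eq_self_of_surjective (QuotientGroup.mk'_surjective _) _) }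
    rw [Nat.card_congr e]
    classical
    let f : {a : S ⧸ center S // a ≠ 1} → {H : Subgroup (S ⧸ center S) // Nat.card H = p} := fun a =>
      ⟨zpowers a.1, by rw [Nat.card_zpowers]; exact orderOf_eq_prime (hexp _) a.2⟩
    have hfib : ∀ H, Nat.card {a // f a = H} = p - 1 := by
      rintro ⟨H, hH⟩
      have e2 : {a // f a = (⟨H, hH⟩ : {H : Subgroup (S ⧸ center S) // Nat.card H = p})} ≃ {a : H // a ≠ 1} :=
        { toFun := fun a => ⟨⟨a.1.1, by
            have h' : zpowers a.1.1 = H := congrArg Subtype.val a.2
            exact (SetLike.ext_iff.mp h' _).mp (mem_zpowers a.1.1)⟩, fun h => a.1.2 (congrArg Subtype.val h)⟩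
          invFun := fun a => ⟨⟨a.1.1, fun h => a.2 (Subtype.ext h)⟩, Subtype.ext (eq_of_le_of_card_ge
            (zpowers_le.mpr a.1.2) (by
              show Nat.card H ≤ Nat.card (zpowers a.1.1)
              rw [Nat.card_zpowers, hH, orderOf_eq_prime (hexp _) (fun h => a.2 (Subtype.ext h))]))⟩
          left_inv := fun a => rfl
          right_inv := fun a => rfl }
      rw [Nat.card_congr e2]
      haveI := Fintype.ofFinite H
      rw [Nat.card_eq_fintype_card, Fintype.card_subtype_compl, Fintype.card_subtype_eq,
        ← Nat.card_eq_fintype_card, hH]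
    haveI := Fintype.ofFinite (S ⧸ center S)
    haveI := Fintype.ofFinite {H : Subgroup (S ⧸ center S) // Nat.card H = p}
    have htot : Nat.card {a : S ⧸ center S // a ≠ 1} =
        Nat.card {H : Subgroup (S ⧸ center S) // Nat.card H = p} * (p - 1) := by
      rw [Nat.card_congr (Equiv.sigmaFiberEquiv f).symm, Nat.card_sigma,
        Finset.sum_congr rfl (fun H _ => hfib H), Finset.sum_const, Finset.card_univ, smul_eq_mul,
        Nat.card_eq_fintype_card]
    rw [Nat.card_eq_fintype_card, Fintype.card_subtype_compl, Fintype.card_subtype_eq,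
      ← Nat.card_eq_fintype_card, hcard] at htot
    have hsq : p ^ 2 - 1 = (p + 1) * (p - 1) := by
      have := Nat.sq_sub_sq p 1
      simpa using this
    rw [hsq] at htot
    exact (Nat.eq_of_mul_eq_mul_right (by have := hp.two_le; omega) htot).symm
  · refine Or.inr ⟨he ▸ Nat.pow_le_pow_right hp.pos he2, fun B hB hBi => ?_⟩
    by_contra hne
    have hnle : ¬ B ≤ A := fun hle => hne (by
      refine eq_of_le_of_card_ge hle ?_
      have h1 := A.card_mul_index
      have h2 := B.card_mul_index
      rw [hAi] at h1; rw [hBi] at h2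
      exact (Nat.eq_of_mul_eq_mul_right hp.pos (h1.trans h2.symm)).le)
    obtain ⟨b, hbB, hbA⟩ := SetLike.not_le_iff_exists.mp hnle
    have hle : A ⊓ B ≤ center S := fun z hz => mem_center_iff.mpr fun t => by
      have := sup_eq_top_of_not_mem hAi hbA (K := centralizer ({z} : Set S))
        (fun a ha => mem_centralizer_singleton_iff.mpr (congrArg Subtype.val (hA.is_comm.comm ⟨a, ha⟩ ⟨z, hz.1⟩)))
        (mem_centralizer_singleton_iff.mpr (congrArg Subtype.val (hB.is_comm.comm ⟨b, hbB⟩ ⟨z, hz.2⟩)))
      exact mem_centralizer_singleton_iff.mp (this ▸ mem_top t)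
    have h1 : (center S).index ≤ p * p := by
      refine le_trans (Nat.le_of_dvd (Nat.pos_of_ne_zero index_ne_zero_of_finite) (index_dvd_of_le hle)) ?_
      calc (A ⊓ B).index ≤ A.index * B.index := index_inf_le
        _ = p * p := by rw [hAi, hBi]
    rw [hidx, he] at h1
    have h2 := Nat.le_of_mul_le_mul_left h1 hp.pos
    have h3 : p ^ 2 ≤ p ^ 1 := (Nat.pow_le_pow_right hp.pos he2).trans (h2.trans (pow_one p).ge)
    have h4 := (Nat.pow_le_pow_iff_right hp.one_lt).mp h3
    omega

theorem center_subgroup_le_center (hS : IsPGroup p S) {Q : Subgroup S} (hQ : IsExtraspecial p Q)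
    (hQi : Q.index = p) : (center Q).map Q.subtype ≤ center S := by
  haveI := normal_of_index_eq hS hQi
  haveI hN : ((center Q).map Q.subtype).Normal := inferInstance
  have hcard : Nat.card ((center Q).map Q.subtype) = p := by
    rw [card_map_of_injective Q.subtype_injective, Extraspecial.card_center hQ]
  haveI : Nontrivial ((center Q).map Q.subtype : Subgroup S) :=
    Finite.one_lt_card_iff_nontrivial.mp (hcard.symm ▸ (Fact.out : p.Prime).one_lt)
  obtain ⟨z, hz, hzne⟩ : ∃ z, z ∈ (center Q).map Q.subtype ⊓ center S ∧ z ≠ 1 := by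
    have hdvd : p ∣ Nat.card ((center Q).map Q.subtype : Subgroup S) := hcard.symm ▸ dvd_rfl
    obtain ⟨b, hb, hb1⟩ := (hS.of_equiv (ConjAct.toConjAct)).exists_fixed_point_of_prime_dvd_card_of_fixed_point
      (α := ((center Q).map Q.subtype : Subgroup S)) hdvd (a := 1)
      (fun g => Subtype.ext (by simp [ConjAct.Subgroup.val_conj_smul]))
    refine ⟨b, ⟨b.2, mem_center_iff.mpr fun g => ?_⟩, fun h => hb1 (Subtype.ext h).symm⟩
    have := congrArg Subtype.val (hb (ConjAct.toConjAct g))
    simp only [ConjAct.Subgroup.val_conj_smul, ConjAct.smul_def, ConjAct.ofConjAct_toConjAct] at this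
    calc g * (b : S) = (g * b * g⁻¹) * g := by group
      _ = b * g := by rw [this]
  intro w hw
  have heq : zpowers z = (center Q).map Q.subtype :=
    eq_of_le_of_card_ge (zpowers_le.mpr hz.1) (by
      rw [hcard, Nat.card_zpowers]
      exact (orderOf_eq_prime (by
        have : (⟨z, hz.1⟩ : ((center Q).map Q.subtype : Subgroup S)) ^ p = 1 := by
          rw [← hcard]; exact pow_card_eq_one'
        exact congrArg Subtype.val this) hzne).ge)
  exact zpowers_le.mpr hz.2 (heq ▸ hw)

theorem center_of_extraspecial_index (hS : IsPGroup p S) {Q : Subgroup S} (hQ : IsExtraspecial p Q)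
    (hQi : Q.index = p) :
    center S = (center Q).map Q.subtype ∨
      (Q ⊔ center S = ⊤ ∧ Nat.card (center S) = p ^ 2) := by
  have hle := center_subgroup_le_center hS hQ hQi
  have hinf : center S ⊓ Q = (center Q).map Q.subtype := by
    refine le_antisymm (fun z hz => ⟨⟨z, hz.2⟩, mem_center_iff.mpr fun q => ?_, rfl⟩)
      (le_inf hle (map_subtype_le _))
    exact Subtype.ext (mem_center_iff.mp hz.1 q)
  by_cases hZ : center S ≤ Q
  · exact Or.inl (by rw [← hinf, inf_eq_left.mpr hZ])
  · obtain ⟨z, hz, hzQ⟩ := SetLike.not_le_iff_exists.mp hZ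
    have htop : Q ⊔ center S = ⊤ :=
      sup_eq_top_of_not_mem hQi hzQ le_sup_left (le_sup_right (a := Q) hz)
    refine Or.inr ⟨htop, ?_⟩
    haveI := normal_of_index_eq hS hQi
    have h1 : Q.relIndex (center S) = p := by
      rw [← relIndex_sup_right (H := center S) (K := Q), sup_comm, htop, relIndex_top_right, hQi]
    have h2 := relIndex_mul_relIndex ⊥ (center S ⊓ Q) (center S) bot_le inf_le_left
    rw [relIndex_bot_left, relIndex_bot_left, inf_relIndex_left, h1, hinf,
      card_map_of_injective Q.subtype_injective, Extraspecial.card_center hQ] at h2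
    rw [← h2, sq]

theorem basics_of_extraspecial_index (hS : IsPGroup p S) {Q : Subgroup S} (hQ : IsExtraspecial p Q)
    (hQi : Q.index = p) :
    (∃ n : ℕ, 1 ≤ n ∧ Nat.card S = p ^ (2 + 2 * n)) ∧ derivedSeries S 3 = ⊥ ∧
      ∀ x : S, x ^ (p ^ 3) = 1 := by
  haveI := normal_of_index_eq hS hQi
  have hcomQ : commutator S ≤ Q := by
    haveI : IsCyclic (S ⧸ Q) := isCyclic_of_prime_card (by rw [← index_eq_card, hQi])
    rw [commutator_def, commutator_le]
    intro a _ b _
    rw [← QuotientGroup.eq_one_iff, ← QuotientGroup.mk'_apply, map_commutatorElement,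
      commutatorElement_eq_one_iff_mul_comm]
    exact IsCyclic.commGroup.mul_comm _ _
  refine ⟨?_, ?_, fun x => ?_⟩
  · obtain ⟨n, hn1, hn⟩ := ExtraspecialOrder.exists_card_eq hQ
    refine ⟨n, hn1, ?_⟩
    rw [← Q.card_mul_index, hQi, hn, ← pow_succ]
    ring_nf
  · have h1 : derivedSeries S 1 ≤ Q := by
      rw [derivedSeries_one]; exact hcomQ
    have h2 : derivedSeries S 2 ≤ (commutator Q).map Q.subtype := by
      rw [derivedSeries_succ, commutator_def, map_commutator, ← MonoidHom.range_eq_map, range_subtype]
      exact commutator_mono h1 h1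
    rw [derivedSeries_succ, eq_bot_iff]
    refine (commutator_mono h2 h2).trans ?_
    rw [Extraspecial.commutator_eq hQ, commutator_le]
    rintro _ ⟨a, ha, rfl⟩ _ ⟨b, hb, rfl⟩
    rw [mem_bot, ← map_commutatorElement,
      commutatorElement_eq_one_iff_mul_comm.mpr (mem_center_iff.mp hb a), map_one]
  · have h1 : x ^ p ∈ Q := by
      rw [← hQi]; exact Q.pow_index_mem x
    have h2 := Extraspecial.pow_eq_one_of_mem_center hQ (Extraspecial.pow_mem_center hQ ⟨x ^ p, h1⟩)
    have h3 := congrArg Subtype.val h2
    simp only [coe_pow, coe_one, ← pow_mul] at h3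
    rw [show p ^ 3 = p * (p * p) by ring]
    exact h3

theorem abelian_index_iff (hS : IsPGroup p S) {Q : Subgroup S} (hQ : IsExtraspecial p Q)
    (hQi : Q.index = p) :
    (∃ A : Subgroup S, IsMulCommutative ↥A ∧ A.index = p) ↔ Nat.card S = p ^ 4 := by
  have hp := (Fact.out : p.Prime)
  have hQna : ¬ IsMulCommutative Q := fun h => by
    obtain ⟨a, b, hab⟩ := Extraspecial.exists_not_commute hQ
    exact hab (h.is_comm.comm a b)
  constructor
  · rintro ⟨A, hA, hAi⟩
    haveI := normal_of_index_eq hS hAi
    have hnle : ¬ Q ≤ A := fun hle => hQna (IsMulCommutative.of_comm fun a b =>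
      Subtype.ext (congrArg Subtype.val (hA.is_comm.comm ⟨a, hle a.2⟩ ⟨b, hle b.2⟩) :))
    have hAQ : (A.subgroupOf Q).index = p := by
      have h1 : A.relIndex Q ∣ p := hAi ▸ relIndex_dvd_index_of_normal A Q
      exact (hp.eq_one_or_self_of_dvd _ h1).resolve_left fun h => hnle (relIndex_eq_one.mp h)
    have hAQc : IsMulCommutative (A.subgroupOf Q) := IsMulCommutative.of_comm fun a b =>
      Subtype.ext (Subtype.ext (congrArg Subtype.val (hA.is_comm.comm ⟨_, a.2⟩ ⟨_, b.2⟩) :))
    have h2 := index_center_eq (Extraspecial.isPGroup hQ) hQna hAQc hAQ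
    rw [Extraspecial.commutator_eq hQ, Extraspecial.card_center hQ] at h2
    have h3 := (center Q).card_mul_index
    rw [Extraspecial.card_center hQ, h2] at h3
    rw [← Q.card_mul_index, hQi, ← h3]; ring
  · intro hcard
    haveI hQn := normal_of_index_eq hS hQi
    have hQcard : Nat.card Q = p ^ 3 := by
      have h1 := Q.card_mul_index
      rw [hQi, hcard, pow_succ] at h1
      exact Nat.eq_of_mul_eq_mul_right hp.pos h1
    set Z := (center Q).map Q.subtype with hZ
    have hZc : Z ≤ center S := center_subgroup_le_center hS hQ hQi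
    have hZcard : Nat.card Z = p := by
      rw [hZ, card_map_of_injective Q.subtype_injective, Extraspecial.card_center hQ]
    haveI : Z.Normal := ⟨fun z hz g => by
      rw [mem_center_iff.mp (hZc hz) g, mul_inv_cancel_right]; exact hz⟩
    -- `b ∈ Q` central modulo `Z`
    set π := QuotientGroup.mk' Z with hπ
    haveI : (Q.map π).Normal := Normal.map hQn π (QuotientGroup.mk'_surjective Z)
    have hne : ¬ Q ≤ Z := fun h => by
      have := Subgroup.card_le_of_le h
      rw [hQcard, hZcard] at this
      exact absurd this (not_le.mpr (by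
        calc p = p ^ 1 := (pow_one p).symm
          _ < p ^ 3 := Nat.pow_lt_pow_right hp.one_lt (by norm_num)))
    have hdvd : p ∣ Nat.card (Q.map π) := by
      obtain ⟨k, hk⟩ := IsPGroup.iff_card.mp ((hS.to_subgroup Q).map π)
      rw [hk]
      refine dvd_pow_self p fun h0 => hne ?_
      rw [h0, pow_zero, card_eq_one, Subgroup.map_eq_bot_iff, hπ, QuotientGroup.ker_mk'] at hk
      exact hk
    obtain ⟨c, hc, hc1⟩ := ((hS.to_quotient Z).of_equiv (ConjAct.toConjAct)).exists_fixed_point_of_prime_dvd_card_of_fixed_point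
      (α := (Q.map π : Subgroup (S ⧸ Z))) hdvd (a := 1)
      (fun g => Subtype.ext (by simp [ConjAct.Subgroup.val_conj_smul]))
    obtain ⟨b, hbQ, hbc⟩ := c.2
    have hbZ : b ∉ Z := fun h => hc1 (Subtype.ext (hbc.symm.trans (show π b = 1 from (QuotientGroup.eq_one_iff b).mpr h))).symm
    have hcen : ∀ t : S, ⁅t, b⁆ ∈ Z := by
      intro t
      rw [← QuotientGroup.eq_one_iff, ← QuotientGroup.mk'_apply, map_commutatorElement,
        commutatorElement_def, mul_inv_eq_one]
      have := congrArg Subtype.val (hc (ConjAct.toConjAct (π t)))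
      simp only [ConjAct.Subgroup.val_conj_smul, ConjAct.smul_def, ConjAct.ofConjAct_toConjAct, ← hbc] at this
      exact this
    let ψ : S →* Z :=
      { toFun := fun t => ⟨⁅t, b⁆, hcen t⟩
        map_one' := Subtype.ext (commutatorElement_one_left b)
        map_mul' := fun t u => Subtype.ext (by
          show ⁅t * u, b⁆ = ⁅t, b⁆ * ⁅u, b⁆
          rw [commutatorElement_mul_left_eq_conj_mul, mem_center_iff.mp (hZc (hcen u)) t,
            mul_inv_cancel_right]
          exact (mem_center_iff.mp (hZc (hcen u)) _).symm) }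
    have hker : ψ.ker = centralizer ({b} : Set S) := by
      ext t
      rw [MonoidHom.mem_ker, mem_centralizer_singleton_iff, ← commutatorElement_eq_one_iff_mul_comm]
      exact ⟨fun h => congrArg Subtype.val h, fun h => Subtype.ext h⟩
    have hidx : (centralizer ({b} : Set S)).index ∣ p := by
      rw [← hker, index_ker, ← hZcard]
      exact card_subgroup_dvd_card _
    set C := centralizer ({b} : Set S) with hC
    obtain ⟨C₃, hC3C, hC3⟩ : ∃ C₃ ≤ C, Nat.card C₃ = p ^ 3 := by
      have h1 : p ^ 3 ∣ Nat.card C := by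
        have h2 := C.card_mul_index
        rcases (Nat.dvd_prime hp).mp hidx with h | h <;> rw [h, hcard] at h2
        · rw [mul_one] at h2; rw [h2]; exact pow_dvd_pow p (by norm_num)
        · rw [pow_succ] at h2; rw [Nat.eq_of_mul_eq_mul_right hp.pos h2]
      obtain ⟨K, hK⟩ := Sylow.exists_subgroup_card_pow_prime (G := C) p h1
      exact ⟨K.map C.subtype, map_subtype_le _, by rw [card_map_of_injective C.subtype_injective, hK]⟩
    -- replace `C₃` by a subgroup containing `b` and `Z`
    have hbC : b ∈ C := mem_centralizer_singleton_iff.mpr rfl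
    have hZC : Z ≤ C := fun z hz => mem_centralizer_singleton_iff.mpr (mem_center_iff.mp (hZc hz) b).symm
    set B := Z ⊔ zpowers b with hB
    have hBC : B ≤ C := sup_le hZC (zpowers_le.mpr hbC)
    have hBcen : ∀ y ∈ C, ∀ x ∈ B, x * y = y * x := by
      intro y hy x hx
      have : B ≤ centralizer ({y} : Set S) := sup_le
        (fun z hz => mem_centralizer_singleton_iff.mpr (mem_center_iff.mp (hZc hz) y).symm)
        (zpowers_le.mpr (mem_centralizer_singleton_iff.mpr (mem_centralizer_singleton_iff.mp hy).symm))
      exact mem_centralizer_singleton_iff.mp (this hx)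
    have hBcard : p ^ 2 ≤ Nat.card B := by
      obtain ⟨k, hk⟩ := IsPGroup.iff_card.mp (hS.to_subgroup B)
      have h1 : Nat.card Z < Nat.card B := by
        refine lt_of_le_of_ne (card_le_of_le le_sup_left) fun h => hbZ ?_
        rw [eq_of_le_of_card_ge (le_sup_left : Z ≤ B) h.ge]
        exact le_sup_right (a := Z) (mem_zpowers b)
      rw [hk] at h1 ⊢
      rw [hZcard] at h1
      nth_rewrite 1 [← pow_one p] at h1
      exact Nat.pow_le_pow_right hp.pos ((Nat.pow_lt_pow_iff_right hp.one_lt).mp h1)
    refine ⟨C₃ ⊔ B, ?_, ?_⟩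
    rotate_left
    · have hle : C₃ ⊔ B ≤ C := sup_le hC3C hBC
      have hne : C₃ ⊔ B ≠ ⊤ := fun h => hbZ (by
        -- otherwise `b` is central, hence in `Z`
        refine ⟨⟨b, hbQ⟩, mem_center_iff.mpr fun q => Subtype.ext ?_, rfl⟩
        exact mem_centralizer_singleton_iff.mp (hle (h ▸ mem_top (q : S))))
      have h1 : (C₃ ⊔ B).index ∣ C₃.index := index_dvd_of_le le_sup_left
      have h2 : C₃.index = p := by
        have := C₃.card_mul_index
        rw [hC3, hcard, pow_succ p 3] at this
        exact Nat.eq_of_mul_eq_mul_left (pow_pos hp.pos 3) this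
      rw [h2] at h1
      exact (hp.eq_one_or_self_of_dvd _ h1).resolve_left fun h => hne (index_eq_one.mp h)
    · -- `B` is central of index at most `p` in `C₃ ⊔ B`
      set A := C₃ ⊔ B with hA
      have hle : A ≤ C := sup_le hC3C hBC
      have hcenA : ∀ x : B.subgroupOf A, (x : A) ∈ center A := fun x => mem_center_iff.mpr fun y =>
        Subtype.ext (hBcen _ (hle y.2) _ x.2).symm
      haveI : (B.subgroupOf A).Normal := ⟨fun x hx g => by
        rw [mem_center_iff.mp (hcenA ⟨x, hx⟩) g, mul_inv_cancel_right]; exact hx⟩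
      have hq : Nat.card (A ⧸ B.subgroupOf A) ∣ p ^ 2 := by
        have h1 := (B.subgroupOf A).card_eq_card_quotient_mul_card_subgroup
        rw [Nat.card_congr (subgroupOfEquivOfLe (le_sup_right : B ≤ A)).toEquiv] at h1
        obtain ⟨i, hi⟩ := IsPGroup.iff_card.mp ((hS.to_subgroup A).to_quotient (B.subgroupOf A))
        obtain ⟨j, hj⟩ := IsPGroup.iff_card.mp (hS.to_subgroup B)
        have h2 : Nat.card A ∣ p ^ 4 := hcard ▸ card_subgroup_dvd_card A
        rw [hj] at hBcard
        rw [h1, hi, hj, ← pow_add, Nat.pow_dvd_pow_iff_le_right hp.one_lt] at h2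
        rw [hi, Nat.pow_dvd_pow_iff_le_right hp.one_lt]
        have := (Nat.pow_le_pow_iff_right hp.one_lt).mp hBcard
        omega
      haveI : IsCyclic (A ⧸ B.subgroupOf A) := by
        rcases (Nat.dvd_prime_pow hp).mp hq with ⟨i, hi, hi'⟩
        rcases (show i = 0 ∨ i = 1 ∨ i = 2 by omega) with h | h | h
        · rw [h, pow_zero] at hi'
          haveI := (Nat.card_eq_one_iff_unique.mp hi').1
          infer_instance
        · rw [h, pow_one] at hi'
          exact isCyclic_of_prime_card hi'
        · exfalso
          have h1 := (B.subgroupOf A).card_eq_card_quotient_mul_card_subgroup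
          rw [Nat.card_congr (subgroupOfEquivOfLe (le_sup_right : B ≤ A)).toEquiv, hi', h] at h1
          have h2 : p ^ 4 ≤ Nat.card A := by
            rw [h1, show p ^ 4 = p ^ 2 * p ^ 2 by ring]; exact Nat.mul_le_mul_left _ hBcard
          have hAt : A = ⊤ := eq_top_of_le_card A (hcard ▸ h2)
          exact hbZ ⟨⟨b, hbQ⟩, mem_center_iff.mpr fun q => Subtype.ext
            (mem_centralizer_singleton_iff.mp (hle (hAt ▸ mem_top (q : S)))), rfl⟩
      exact IsMulCommutative.of_comm (commutative_of_cyclic_center_quotient (QuotientGroup.mk' (B.subgroupOf A))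
        (by rw [QuotientGroup.ker_mk']; exact fun x hx => hcenA ⟨x, hx⟩))

end Cfsg.Agent.Lib.AbelianIndexP
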